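import Groth.Prelude
import Groth.Agent.AVFrobLib.Exist
import Groth.Agent.AVFrobLib.Rosati
import Groth.Agent.AVSplitLib.Regular
import Groth.Agent.H23.MaxAbelian

/-!
Abelian varieties over a finite field annihilated by a polynomial in Frobenius: elementary closure
properties of this category.
-/

noncomputable section

universe u

set_option linter.style.haveILetI false
set_option linter.unusedSectionVars false
set_option maxHeartbeats 1000000
set_option synthInstance.maxHeartbeats 200000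

open CategoryTheory CategoryTheory.Limits MonoidalCategory CartesianMonoidalCategory AlgebraicGeometry
open scoped MonObj

namespace Groth.Agent.AVCatLib

open Groth.Agent Groth.Agent.AVFrobLib

variable {k : Type u} [Field k]

theorem powMap_comm [Finite k] {X Y : Over (Spec (CommRingCat.of k))} (f : X ⟶ Y) {a : X ⟶ X} {b : Y ⟶ Y}
    (ha : WeilLib.IsPowMap a.left (Nat.card k)) (hb : WeilLib.IsPowMap b.left (Nat.card k)) :
    a ≫ f = f ≫ b := by
  haveI := Fintype.ofFinite k
  obtain ⟨p, hp⟩ := CharP.exists k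
  obtain ⟨e, hprime, he⟩ := FiniteField.card k p
  haveI : Fact p.Prime := ⟨hprime⟩
  haveI : CharP (CommRingCat.of k) p := hp
  haveI : FrobSch.IsCharP X.left p := FrobSch.IsCharP.of_hom X.hom p
  haveI : FrobSch.IsCharP Y.left p := FrobSch.IsCharP.of_hom Y.hom p
  rw [Nat.card_eq_fintype_card, he] at ha hb
  apply Over.OverMorphism.ext
  rw [Over.comp_left, Over.comp_left, isPowMap_eq ha (isPowMap_frobIter p X.left e),
    isPowMap_eq hb (isPowMap_frobIter p Y.left e), frobIter_comp]

theorem powMap_of_data {X : Scheme.{u}} {F : X ⟶ X} {Q : ℕ} (hb : F.base = 𝟙 _)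
    (hle : ∀ U : X.Opens, U ≤ F ⁻¹ᵁ U)
    (happ : ∀ (U : X.Opens) (s : Γ(X, U)), (F.appLE U U (hle U)).hom s = s ^ Q) : WeilLib.IsPowMap F Q where
  base x := by
    show F.base x = x
    rw [hb]
    rfl
  app U h s := happ U s

theorem base_eq_id {X : Scheme.{u}} {F : X ⟶ X} {Q : ℕ} (h : WeilLib.IsPowMap F Q) : F.base = 𝟙 _ := by
  ext x
  exact h.base x

variable {X Y A : Over (Spec (CommRingCat.of k))} [GrpObj X] [IsCommMonObj X] [GrpObj Y] [IsCommMonObj Y]
  [GrpObj A] [IsCommMonObj A]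

theorem eval_comm (φ : X ⟶ Y) [IsMonHom φ] {a : EndAV.End X} {b : EndAV.End Y}
    (h : a.toHom ≫ φ = φ ≫ b.toHom) (P : Polynomial ℤ) :
    (P.eval₂ (Int.castRingHom (EndAV.End X)) a).toHom ≫ φ =
      φ ≫ (P.eval₂ (Int.castRingHom (EndAV.End Y)) b).toHom := by
  induction P using Polynomial.induction_on' with
  | add p q hp hq =>
    rw [Polynomial.eval₂_add, Polynomial.eval₂_add, EndAV.End.toHom_add, EndAV.End.toHom_add,
      MonObj.mul_comp, MonObj.comp_mul, hp, hq]
  | monomial n c =>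
    rw [Polynomial.eval₂_monomial, Polynomial.eval₂_monomial, eq_intCast, eq_intCast, ← zsmul_eq_mul,
      ← zsmul_eq_mul, EndAV.End.toHom_zsmul, EndAV.End.toHom_zsmul, GrpObj.zpow_comp, GrpObj.comp_zpow]
    congr 1
    induction n with
    | zero => simp
    | succ n ih =>
      rw [EndAV.End.toHom_pow_succ, EndAV.End.toHom_pow_succ, Category.assoc, h, ← Category.assoc, ih,
        Category.assoc]

/-- The target of an epimorphism inherits the equation of Frobenius. -/
theorem exists_frobenius_of_epi [Finite k] (P : Polynomial ℤ) (φ : EndAV.Hom X Y) [Epi φ.toHom]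
    (a : EndAV.End X) (ha : WeilLib.IsPowMap a.toHom.left (Nat.card k))
    (hP : P.eval₂ (Int.castRingHom (EndAV.End X)) a = 0) :
    ∃ (π : Y ⟶ Y) (_ : IsMonHom π) (_ : π.left.base = 𝟙 _) (hle : ∀ U : Y.left.Opens, U ≤ π.left ⁻¹ᵁ U),
      (∀ (U : Y.left.Opens) (s : Γ(Y.left, U)), (π.left.appLE U U (hle U)).hom s = s ^ Nat.card k) ∧
      P.eval₂ (Int.castRingHom (EndAV.End Y)) (EndAV.End.of π) = 0 := by
  obtain ⟨π, hπ, hpow⟩ := AVFrobLib.exists_frobenius Y
  haveI := hπ
  refine ⟨π, hπ, base_eq_id hpow, hpow.le, fun U s => hpow.app U _ s, EndAV.End.ext ?_⟩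
  have h1 := eval_comm φ.toHom (a := a) (b := EndAV.End.of π) (powMap_comm φ.toHom ha hpow) P
  rw [hP, EndAV.End.toHom_zero, MonObj.one_comp] at h1
  rw [EndAV.End.toHom_zero, ← cancel_epi φ.toHom, MonObj.comp_one]
  exact h1.symm

/-- Finitely many homomorphisms into `A` factor through one homomorphism into an abelian variety. -/
theorem exists_factor [IsProper A.hom] [GeometricallyIntegral A.hom] :
    ∀ (n : ℕ) (ψ : Fin n → EndAV.Hom X A),
    ∃ (B : Over (Spec (CommRingCat.of k))) (_ : GrpObj B) (_ : IsCommMonObj B) (_ : IsProper B.hom)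
      (_ : GeometricallyIntegral B.hom) (Ψ : EndAV.Hom X B),
      (∀ i, ∃ g : EndAV.Hom B A, Ψ ≫ g = ψ i) ∧
      ∀ (T : Over (Spec (CommRingCat.of k))) (x : T ⟶ X), (∀ i, x ≫ (ψ i).toHom = 1) → x ≫ Ψ.toHom = 1 := by
  intro n
  induction n with
  | zero =>
    intro ψ
    exact ⟨A, inferInstance, inferInstance, inferInstance, inferInstance, 0, fun i => i.elim0, fun T x _ => by
      rw [EndAV.Hom.toHom_zero, MonObj.comp_one]⟩
  | succ n ih =>
    intro ψ
    obtain ⟨B, _, _, _, _, Ψ, hΨ, hker⟩ := ih fun i => ψ i.succ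
    haveI : IsProper (A ⊗ B).hom := by
      show IsProper (pullback.fst A.hom B.hom ≫ A.hom)
      infer_instance
    haveI : GeometricallyIntegral (A ⊗ B).hom := H23.MaxAbelian.geometricallyIntegral_tensor A B
    haveI : IsMonHom (lift (ψ 0).toHom Ψ.toHom) := inferInstance
    refine ⟨A ⊗ B, inferInstance, inferInstance, inferInstance, inferInstance,
      EndAV.Hom.of (lift (ψ 0).toHom Ψ.toHom), fun i => ?_, fun T x hx => ?_⟩
    · refine Fin.cases ⟨EndAV.Hom.of (fst A B), EndAV.Hom.ext (lift_fst _ _)⟩ (fun i => ?_) i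
      obtain ⟨g, hg⟩ := hΨ i
      refine ⟨EndAV.Hom.of (snd A B) ≫ g, EndAV.Hom.ext ?_⟩
      rw [← hg]
      exact lift_snd_assoc _ _ _
    · apply CartesianMonoidalCategory.hom_ext
      · rw [MonObj.one_comp, Category.assoc, EndAV.Hom.toHom_of, lift_fst, hx 0]
      · rw [MonObj.one_comp, Category.assoc, EndAV.Hom.toHom_of, lift_snd, hker T x fun i => hx i.succ]

end Groth.Agent.AVCatLib
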