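import Groth.Agent.AVCatLib.Basic

/-!
Finite powers of an abelian variety, through their projections.
-/

noncomputable section

universe u

set_option linter.style.haveILetI false
set_option linter.unusedSectionVars false
set_option maxHeartbeats 1000000
set_option synthInstance.maxHeartbeats 200000

open CategoryTheory CategoryTheory.Limits MonoidalCategory CartesianMonoidalCategory AlgebraicGeometry
open scoped MonObj

namespace Groth.Agent.AVCatLib

open Groth.Agent

variable {k : Type u} [Field k] {A : Over (Spec (CommRingCat.of k))} [GrpObj A] [IsCommMonObj A]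
  [IsProper A.hom] [GeometricallyIntegral A.hom]

theorem exists_power : ∀ (n : ℕ),
    ∃ (B : Over (Spec (CommRingCat.of k))) (_ : GrpObj B) (_ : IsCommMonObj B) (_ : IsProper B.hom)
      (_ : GeometricallyIntegral B.hom) (p : Fin n → EndAV.Hom B A),
      (∀ (T : Over (Spec (CommRingCat.of k))) (x y : T ⟶ B), (∀ i, x ≫ (p i).toHom = y ≫ (p i).toHom) → x = y) ∧
      (∀ (X : Over (Spec (CommRingCat.of k))) [GrpObj X] [IsCommMonObj X] (ψ : Fin n → EndAV.Hom X A),
        ∃ Ψ : EndAV.Hom X B, ∀ i, Ψ ≫ p i = ψ i) ∧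
      ∀ u : EndAV.Hom B A, ∃ s : Fin n → EndAV.Hom A A, u = ∑ i, p i ≫ s i := by
  intro n
  induction n with
  | zero =>
    haveI : IsProper (𝟙_ (Over (Spec (CommRingCat.of k)))).hom := by
      show IsProper (𝟙 _); infer_instance
    haveI : GeometricallyIntegral (𝟙_ (Over (Spec (CommRingCat.of k)))).hom := by
      show GeometricallyIntegral (𝟙 (Spec (CommRingCat.of k)))
      refine H23.MaxAbelian.geometricallyIntegral_of_pullback _ fun K _ x => ?_
      exact isIntegral_of_isOpenImmersion (pullback.snd (𝟙 _) x)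
    refine ⟨𝟙_ _, inferInstance, inferInstance, inferInstance, inferInstance, Fin.elim0,
      fun T x y _ => Subsingleton.elim x y, fun X _ _ ψ => ⟨0, fun i => i.elim0⟩, fun u => ⟨Fin.elim0, ?_⟩⟩
    rw [Finset.univ_eq_empty, Finset.sum_empty]
    apply EndAV.Hom.ext
    rw [EndAV.Hom.toHom_zero, ← Category.id_comp u.toHom,
      show 𝟙 (𝟙_ (Over (Spec (CommRingCat.of k)))) = 1 from Subsingleton.elim _ _, MonObj.one_comp]
  | succ n ih =>
    obtain ⟨B, _, _, _, _, p, hmono, hlift, hdec⟩ := ih
    haveI : IsProper (A ⊗ B).hom := by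
      show IsProper (pullback.fst A.hom B.hom ≫ A.hom)
      infer_instance
    haveI : GeometricallyIntegral (A ⊗ B).hom := H23.MaxAbelian.geometricallyIntegral_tensor A B
    refine ⟨A ⊗ B, inferInstance, inferInstance, inferInstance, inferInstance,
      Fin.cons (EndAV.Hom.of (fst A B)) (fun i => EndAV.Hom.of (snd A B) ≫ p i), ?_, ?_, ?_⟩
    · intro T x y h
      apply CartesianMonoidalCategory.hom_ext
      · simpa using h 0
      · refine hmono T _ _ fun i => ?_
        simpa using h i.succ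
    · intro X _ _ ψ
      obtain ⟨Ψ, hΨ⟩ := hlift X fun i => ψ i.succ
      haveI : IsMonHom (lift (ψ 0).toHom Ψ.toHom) := inferInstance
      refine ⟨EndAV.Hom.of (lift (ψ 0).toHom Ψ.toHom), fun i => Fin.cases ?_ (fun i => ?_) i⟩
      · rw [Fin.cons_zero]
        exact EndAV.Hom.ext (lift_fst _ _)
      · rw [Fin.cons_succ, ← Category.assoc, show EndAV.Hom.of (lift (ψ 0).toHom Ψ.toHom) ≫
          EndAV.Hom.of (snd A B) = Ψ from EndAV.Hom.ext (lift_snd _ _)]
        exact hΨ i
    · intro u
      haveI : IsMonHom (1 : A ⟶ B) := (inferInstance : IsMonHom ((0 : EndAV.Hom A B).toHom))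
      haveI : IsMonHom (1 : B ⟶ A) := (inferInstance : IsMonHom ((0 : EndAV.Hom B A).toHom))
      haveI : IsMonHom (lift (𝟙 A) (1 : A ⟶ B)) := inferInstance
      haveI : IsMonHom (lift (1 : B ⟶ A) (𝟙 B)) := inferInstance
      let inl : EndAV.Hom A (A ⊗ B) := EndAV.Hom.of (lift (𝟙 A) 1)
      let inr : EndAV.Hom B (A ⊗ B) := EndAV.Hom.of (lift 1 (𝟙 B))
      obtain ⟨s, hs⟩ := hdec (inr ≫ u)
      refine ⟨Fin.cons (inl ≫ u) s, ?_⟩
      rw [Fin.sum_univ_succ]
      simp only [Fin.cons_zero, Fin.cons_succ, Category.assoc]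
      rw [← Preadditive.comp_sum, ← hs, ← Category.assoc, ← Category.assoc, ← Preadditive.add_comp]
      refine (congrArg (· ≫ u) (EndAV.Hom.ext ?_ :
        EndAV.Hom.of (fst A B) ≫ inl + EndAV.Hom.of (snd A B) ≫ inr = 𝟙 (CommGrp.mk (A ⊗ B)))).trans
          (Category.id_comp u) |>.symm
      rw [EndAV.Hom.toHom_add, EndAV.Hom.toHom_comp, EndAV.Hom.toHom_comp, EndAV.Hom.toHom_id]
      show (fst A B ≫ lift (𝟙 A) 1) * (snd A B ≫ lift 1 (𝟙 B)) = 𝟙 (A ⊗ B)
      apply CartesianMonoidalCategory.hom_ext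
      · rw [MonObj.mul_comp, Category.assoc, Category.assoc, lift_fst, lift_fst, Category.comp_id,
          MonObj.comp_one, mul_one, Category.id_comp]
      · rw [MonObj.mul_comp, Category.assoc, Category.assoc, lift_snd, lift_snd, Category.comp_id,
          MonObj.comp_one, one_mul, Category.id_comp]

end Groth.Agent.AVCatLib
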