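import Groth.Agent.AVCatLib.Basic
import Groth.Agent.S16586
import Groth.Agent.GrpSchLib.HomFlat

/-!
If `Hom(-, A)` is fully faithful then homomorphisms into `A` separate points.
-/

noncomputable section

universe u

set_option linter.style.haveILetI false
set_option linter.unusedSectionVars false
set_option linter.unusedVariables false
set_option maxHeartbeats 1000000
set_option synthInstance.maxHeartbeats 200000

open CategoryTheory CategoryTheory.Limits MonoidalCategory CartesianMonoidalCategory MonObj GrpObj AlgebraicGeometry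

namespace Groth.Agent.AVCatLib

open Groth.Agent

theorem separates (k : Type u) [Field k] [Finite k]
    (P : Polynomial ℤ) (A : Over (Spec (CommRingCat.of k))) [GrpObj A] [IsCommMonObj A] [IsProper A.hom] [GeometricallyIntegral A.hom]
    (hff : ∀ (X Y : Over (Spec (CommRingCat.of k))) [GrpObj X] [IsCommMonObj X] [IsProper X.hom] [GeometricallyIntegral X.hom]
      [GrpObj Y] [IsCommMonObj Y] [IsProper Y.hom] [GeometricallyIntegral Y.hom]
      (πX : X ⟶ X) [IsMonHom πX] (hπXb : πX.left.base = 𝟙 _) (hπXle : ∀ U : X.left.Opens, U ≤ πX.left ⁻¹ᵁ U)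
      (hπXapp : ∀ (U : X.left.Opens) (s : Γ(X.left, U)), (πX.left.appLE U U (hπXle U)).hom s = s ^ Nat.card k)
      (hPX : Polynomial.eval₂ (Int.castRingHom (EndAV.End X)) (EndAV.End.of πX) P = 0)
      (πY : Y ⟶ Y) [IsMonHom πY] (hπYb : πY.left.base = 𝟙 _) (hπYle : ∀ U : Y.left.Opens, U ≤ πY.left ⁻¹ᵁ U)
      (hπYapp : ∀ (U : Y.left.Opens) (s : Γ(Y.left, U)), (πY.left.appLE U U (hπYle U)).hom s = s ^ Nat.card k)
      (hPY : Polynomial.eval₂ (Int.castRingHom (EndAV.End Y)) (EndAV.End.of πY) P = 0),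
      (∀ f g : EndAV.Hom X Y, (∀ φ : EndAV.Hom Y A, f ≫ φ = g ≫ φ) → f = g) ∧
        (∀ g : EndAV.Hom Y A →+ EndAV.Hom X A,
          (∀ (φ : EndAV.Hom Y A) (s : EndAV.Hom A A), g (φ ≫ s) = g φ ≫ s) →
            ∃ f : EndAV.Hom X Y, ∀ φ : EndAV.Hom Y A, g φ = f ≫ φ))
    (X : Over (Spec (CommRingCat.of k))) [GrpObj X] [IsCommMonObj X] [IsProper X.hom] [GeometricallyIntegral X.hom]
    (πX : X ⟶ X) [IsMonHom πX] (hπXb : πX.left.base = 𝟙 _) (hπXle : ∀ U : X.left.Opens, U ≤ πX.left ⁻¹ᵁ U)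
      (hπXapp : ∀ (U : X.left.Opens) (s : Γ(X.left, U)), (πX.left.appLE U U (hπXle U)).hom s = s ^ Nat.card k)
    (hPX : Polynomial.eval₂ (Int.castRingHom (EndAV.End X)) (EndAV.End.of πX) P = 0)
    (T : Over (Spec (CommRingCat.of k))) (x : T ⟶ X) (hx : ∀ f : EndAV.Hom X A, x ≫ f.toHom = 1) : x = 1 := by
  classical
  obtain ⟨gX, hgX⟩ := TorsPtsLib.exists_dim X
  obtain ⟨gA, hgA⟩ := TorsPtsLib.exists_dim A
  haveI : Module.Finite ℤ (EndAV.Hom X A) := (S16586.result k X A gX gA hgX hgA).2.1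
  obtain ⟨n, ψ, hψ⟩ := Module.Finite.exists_fin (R := ℤ) (M := EndAV.Hom X A)
  obtain ⟨B, _, _, _, _, Ψ, hfac, hker⟩ := exists_factor n ψ
  obtain ⟨N, _, j, q, _, _, hjc, _, _, hqs, hqj⟩ := AVSplitLib.exists_image Ψ.toHom
  haveI := hjc; haveI := hqs
  haveI : IsCommMonObj N := isCommMonObj_of_isProper_of_geometricallyIntegral N
  haveI : IsIntegral N.left := GeometricallyIntegral.isIntegral_of_subsingleton N.hom
  haveI : IsDominant q.left := inferInstance
  haveI : Epi q := ⟨fun {Z} g h e => by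
    haveI : Flat q.left := by
      haveI : QuasiCompact (q.left ≫ N.hom) := by rw [Over.w]; infer_instance
      haveI : QuasiCompact q.left := QuasiCompact.of_comp q.left N.hom
      exact GrpSchLib.flat_of_surjective_hom q
    haveI : QuasiCompact (q.left ≫ N.hom) := by rw [Over.w]; infer_instance
    haveI : QuasiCompact q.left := QuasiCompact.of_comp q.left N.hom
    haveI : Epi q.left := Flat.epi_of_flat_of_surjective q.left
    exact Over.OverMorphism.ext ((cancel_epi q.left).1 (congrArg CommaMorphism.left e))⟩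
  haveI : Epi (EndAV.Hom.of q).toHom := inferInstanceAs (Epi q)
  obtain ⟨πN, _, hNb, hNle, hNapp, hNP⟩ := exists_frobenius_of_epi P (EndAV.Hom.of q) (EndAV.End.of πX)
    (powMap_of_data hπXb hπXle hπXapp) hPX
  let ρ : EndAV.Hom N A →+ EndAV.Hom X A :=
    { toFun := fun g => EndAV.Hom.of q ≫ g
      map_zero' := Limits.comp_zero
      map_add' := fun a b => Preadditive.comp_add _ _ _ _ a b }
  have hinj : Function.Injective ρ := fun a b h =>
    EndAV.Hom.ext ((cancel_epi q).1 (congrArg EndAV.Hom.toHom h))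
  have hsur : Function.Surjective ρ := by
    have h1 : Submodule.span ℤ (Set.range ψ) ≤ ρ.range.toIntSubmodule := by
      rw [Submodule.span_le]
      rintro _ ⟨i, rfl⟩
      obtain ⟨g, hg⟩ := hfac i
      refine ⟨EndAV.Hom.of j ≫ g, EndAV.Hom.ext ?_⟩
      rw [← hg]
      show q ≫ j ≫ g.toHom = Ψ.toHom ≫ g.toHom
      rw [← Category.assoc, hqj]
    rw [hψ] at h1
    exact fun f => h1 (x := f) Submodule.mem_top
  let e := AddEquiv.ofBijective ρ ⟨hinj, hsur⟩
  obtain ⟨g, hg⟩ := (hff N X πN hNb hNle hNapp hNP πX hπXb hπXle hπXapp hPX).2 e.symm.toAddMonoidHom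
    fun r s => hinj (by
      have h1 : ∀ t, ρ (e.symm t) = t := fun t => e.apply_symm_apply t
      show ρ (e.symm (r ≫ s)) = EndAV.Hom.of q ≫ e.symm r ≫ s
      rw [h1, ← Category.assoc]
      exact congrArg (· ≫ s) (h1 r).symm)
  have hqg : EndAV.Hom.of q ≫ g = 𝟙 (CommGrp.mk X) :=
    (hff X X πX hπXb hπXle hπXapp hPX πX hπXb hπXle hπXapp hPX).1 _ _ fun r => by
      rw [Category.assoc, ← hg r, Category.id_comp]
      exact e.apply_symm_apply r
  have hqg' : q ≫ g.toHom = 𝟙 X := congrArg EndAV.Hom.toHom hqg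
  haveI : Mono j := Over.mono_of_mono_left j
  have h3 : x ≫ q = 1 := by
    rw [← cancel_mono j, Category.assoc, hqj, MonObj.one_comp, hker T x fun i => hx (ψ i)]
  rw [← Category.comp_id x, ← hqg', ← Category.assoc, h3, MonObj.one_comp]

end Groth.Agent.AVCatLib
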